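import Cfsg.Agent.Lib.Chev.Borel
import Cfsg.Prelude.Def_ChevAutomorphisms

/-!
Generation of a Chevalley group by its monomial subgroup and a few root subgroups.
-/

set_option autoImplicit false

namespace Cfsg.Agent.Lib.ChevGeneration

open Cfsg.Lie Cfsg.Agent.Lib.Chev

variable {D : ChevalleyDatum} {C : Cert} {F : Type*} [Field F]

/-- One round of closing a set of roots under the fundamental reflections. -/
def grow (D : ChevalleyDatum) (C : Cert) : ℕ → List ℕ → List ℕ → List ℕ
  | 0, seen, _ => seen
  | k + 1, seen, front =>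
    let new := (front.flatMap fun r => (List.range D.rank).map fun i => refl C i r).foldl
      (fun acc r => if seen.contains r || acc.contains r then acc else r :: acc) []
    match new with
    | [] => seen
    | a :: l => grow D C k ((a :: l) ++ seen) (a :: l)

/-- The roots in the orbits of the given roots. -/
def orbit (D : ChevalleyDatum) (C : Cert) (l : List ℕ) : List ℕ := grow D C D.nroots l l

/-- Fundamental roots reached from the given ones by pairs of fundamental reflections. -/
def spread (D : ChevalleyDatum) (C : Cert) : ℕ → List ℕ → List ℕ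
  | 0, S => S
  | k + 1, S => spread D C k (S ++ (List.range D.rank).filterMap fun a =>
      if S.contains (D.simple a) then none
      else if (List.range D.rank).any (fun b =>
          S.contains (D.simple b) && refl C b (refl C a (D.simple b)) == D.simple a) then some (D.simple a)
      else none)

/-- All roots of `M` are in the orbit of `l` or are commutators with coefficient of absolute value `m`
of two roots in the orbit. -/
def coversOrbit (D : ChevalleyDatum) (C : Cert) (m : ℕ) (l : List ℕ) : Bool :=
  let O := orbit D C l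
  (List.range D.rank).all fun j =>
    O.contains (D.simple j) || (m != 0 && O.any fun a => O.any fun b =>
      Nat.blt a D.nroots && Nat.blt b D.nroots && b != a && b != ng D a &&
        (match cTerms C a b with
          | [c] => c.1 == D.simple j && c.2.1.natAbs == m && c.2.2.1 == 1 && c.2.2.2 == 1
          | _ => false))

/-- Either pairs of reflections reach all fundamental roots, or the orbit check succeeds. -/
def covers (D : ChevalleyDatum) (C : Cert) (m : ℕ) (l : List ℕ) : Bool :=
  ((List.range D.rank).all fun j => (spread D C D.rank l).contains (D.simple j)) || coversOrbit D C m l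

/-- The matrices of the root subgroup of `r` lie in `L`. -/
def RootsIn (D : ChevalleyDatum) (F : Type*) [Field F] (L : Subgroup (GL D.Idx F)) (r : ℕ) : Prop :=
  ∀ t : F, ∃ g ∈ L, ((g : GL D.Idx F) : Matrix D.Idx D.Idx F) = D.x F r t

variable (h : Rooted D C) {L : Subgroup (GL D.Idx F)} (hN : D.monomialSubgroup F ≤ L)
include h hN

theorem nGL_mem {i : ℕ} (hi : i < D.rank) :
    ∃ n ∈ L, ((n : GL D.Idx F) : Matrix D.Idx D.Idx F) = D.nMat F (D.simple i) 1 := by
  refine ⟨(h.toChecked.nMat_isUnit hi).unit, hN (Subgroup.mem_sup_right (Subgroup.subset_closure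
    ⟨D.simple i, h.toChecked.simple_lt hi, rfl⟩)), rfl⟩

theorem rootsIn_refl {i r : ℕ} (hi : i < D.rank) (hr : r < D.nroots) (hP : RootsIn D F L r) :
    RootsIn D F L (refl C i r) := by
  intro t
  obtain ⟨n, hn, en⟩ := nGL_mem h hN hi
  obtain ⟨g, hg, eg⟩ := hP ((eta C i r : F) * t)
  refine ⟨n * g * n⁻¹, L.mul_mem (L.mul_mem hn hg) (L.inv_mem hn), ?_⟩
  have e := h.toChecked.nMat_mul_x (F := F) hi hr ((eta C i r : F) * t)
  rw [← mul_assoc, etaF_sq, one_mul] at e
  rw [Units.val_mul, Units.val_mul, eg, en, e, mul_assoc, ← en, Units.mul_inv, mul_one]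

theorem rootsIn_grow : ∀ (k : ℕ) (seen front : List ℕ),
    (∀ r ∈ seen, r < D.nroots ∧ RootsIn D F L r) → (∀ r ∈ front, r < D.nroots ∧ RootsIn D F L r) →
    ∀ r ∈ grow D C k seen front, r < D.nroots ∧ RootsIn D F L r := by
  intro k
  induction k with
  | zero => intro seen front hs _ r hr; exact hs r hr
  | succ k ih =>
    intro seen front hs hf r hr
    have hnew : ∀ (l acc : List ℕ), (∀ x ∈ l, x < D.nroots ∧ RootsIn D F L x) →
        (∀ x ∈ acc, x < D.nroots ∧ RootsIn D F L x) →
        ∀ x ∈ l.foldl (fun acc r => if seen.contains r || acc.contains r then acc else r :: acc) acc,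
          x < D.nroots ∧ RootsIn D F L x := by
      intro l
      induction l with
      | nil => intro acc _ ha x hx; exact ha x hx
      | cons a l ihl =>
        intro acc hl ha x hx
        rw [List.foldl_cons] at hx
        refine ihl _ (fun y hy => hl y (List.mem_cons_of_mem _ hy)) (fun y hy => ?_) x hx
        split at hy
        · exact ha y hy
        · rcases List.mem_cons.1 hy with rfl | hy
          · exact hl _ List.mem_cons_self
          · exact ha y hy
    have himg : ∀ x ∈ front.flatMap (fun r => (List.range D.rank).map fun i => refl C i r),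
        x < D.nroots ∧ RootsIn D F L x := by
      intro x hx
      obtain ⟨y, hy, hx⟩ := List.mem_flatMap.1 hx
      obtain ⟨i, hi, rfl⟩ := List.mem_map.1 hx
      have hi' := List.mem_range.1 hi
      exact ⟨h.toChecked.refl_lt hi' (hf y hy).1, rootsIn_refl h hN hi' (hf y hy).1 (hf y hy).2⟩
    simp only [grow] at hr
    generalize hg : (front.flatMap fun r => (List.range D.rank).map fun i => refl C i r).foldl
      (fun acc r => if seen.contains r || acc.contains r then acc else r :: acc) [] = new at hr
    have hn := hnew _ [] himg (by simp)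
    rw [hg] at hn
    rcases new with _ | ⟨a, l⟩
    · exact hs r hr
    · refine ih _ _ (fun x hx => ?_) hn r hr
      rcases List.mem_append.1 hx with hx | hx
      exacts [hn x hx, hs x hx]

theorem rootsIn_spread : ∀ (k : ℕ) (S : List ℕ), (∀ r ∈ S, r < D.nroots ∧ RootsIn D F L r) →
    ∀ r ∈ spread D C k S, r < D.nroots ∧ RootsIn D F L r := by
  intro k
  induction k with
  | zero => intro S hS r hr; exact hS r hr
  | succ k ih =>
    intro S hS r hr
    refine ih _ (fun x hx => ?_) r hr
    rcases List.mem_append.1 hx with hx | hx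
    · exact hS x hx
    obtain ⟨a, ha, hx⟩ := List.mem_filterMap.1 hx
    split at hx
    · exact absurd hx (by simp)
    split at hx
    · next hany =>
      simp only [List.any_eq_true, List.mem_range, Bool.and_eq_true, List.contains_iff_mem, beq_iff_eq] at hany
      obtain ⟨b, hb, hSb, e⟩ := hany
      rw [Option.some.injEq] at hx
      rw [← hx]
      have ha' := List.mem_range.1 ha
      refine ⟨h.toChecked.simple_lt ha', ?_⟩
      rw [← e]
      exact rootsIn_refl h hN hb (h.toChecked.refl_lt ha' (hS _ hSb).1)
        (rootsIn_refl h hN ha' (hS _ hSb).1 (hS _ hSb).2)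
    · exact absurd hx (by simp)

/-- If the covering check succeeds, the Chevalley group lies in `L`. -/
theorem group_le_of_covers {m : ℕ} (hm : m ≠ 0 → (m : F) ≠ 0) {l : List ℕ}
    (hl : ∀ r ∈ l, r < D.nroots ∧ RootsIn D F L r) (hc : covers D C m l = true) : D.group F ≤ L := by
  have hO : ∀ r ∈ orbit D C l, r < D.nroots ∧ RootsIn D F L r := rootsIn_grow h hN _ _ _ hl hl
  simp only [covers, coversOrbit, List.all_eq_true, List.mem_range, Bool.or_eq_true, Bool.and_eq_true,
    List.any_eq_true, Nat.blt_eq, bne_iff_ne, List.contains_iff_mem] at hc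
  have hsimple : ∀ j < D.rank, RootsIn D F L (D.simple j) := by
    intro j hj
    rcases hc with hc | hc
    · exact (rootsIn_spread h hN _ _ hl _ (hc j hj)).2
    rcases hc j hj with hmem | ⟨hm0, a, ha, b, hb, ⟨⟨⟨ha', hb'⟩, hba⟩, hbn⟩, hterm⟩
    · exact (hO _ hmem).2
    split at hterm
    swap
    · exact absurd hterm (by simp)
    next c hcs =>
    simp only [Bool.and_eq_true, beq_iff_eq] at hterm
    obtain ⟨⟨⟨hk, hcm⟩, h1⟩, h2⟩ := hterm
    intro v
    have hc0 : (c.2.1 : F) ≠ 0 := by
      rcases Int.natAbs_eq c.2.1 with e | e <;> rw [e, hcm] <;> simpa using hm hm0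
    obtain ⟨t, ht⟩ : ∃ t : F, (c.2.1 : F) * (-t) = v := ⟨-(v / c.2.1), by field_simp⟩
    obtain ⟨ga, hga, ea⟩ := (hO a ha).2 t
    obtain ⟨gb, hgb, eb⟩ := (hO b hb).2 1
    refine ⟨(ga * gb)⁻¹ * (gb * ga), L.mul_mem (L.inv_mem (L.mul_mem hga hgb)) (L.mul_mem hgb hga), ?_⟩
    have e := h.toChecked.commutator_formula (F := F) (r := a) (s := b) ha' hb' hba hbn t 1
    rw [h.toChecked.commWord_eq ha' hb', hcs] at e
    simp only [ChevalleyDatum.wordMat, List.map_cons, List.map_nil, List.prod_cons, List.prod_nil, mul_one,
      h1, h2, pow_one, hk, ht, ← ea, ← eb] at e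
    rw [← ea] at *
    rw [Units.val_mul, Units.val_mul, e, ← mul_assoc, ← Units.val_mul ga gb, Units.inv_mul, one_mul]
  have hall : ∀ r < D.nroots, RootsIn D F L r :=
    h.root_induction hsimple fun i hi r hr hP => rootsIn_refl h hN hi hr hP
  unfold ChevalleyDatum.group
  rw [Subgroup.closure_le]
  rintro g ⟨r, t, e⟩
  obtain ⟨g', hg', e'⟩ := hall r r.isLt t
  have : g = g' := Units.ext (by rw [e, e', ChevalleyDatum.x, dif_pos r.isLt])
  rw [this]
  exact hg'

omit hN in
theorem rootsIn_rootSubgroup {r : ℕ} (hr : r < D.nroots) (hle : D.rootSubgroup F r ≤ L) : RootsIn D F L r :=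
  fun t => ⟨xGL h.toChecked F hr t, hle (Subgroup.subset_closure ⟨t, rfl⟩), rfl⟩

end Cfsg.Agent.Lib.ChevGeneration
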