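import Cfsg.Agent.Lib.Chev.Borel
import Cfsg.Prelude.Def_ChevAutomorphisms

/-!
Certificates for the generation of a Chevalley group by two elements.
-/

set_option autoImplicit false

namespace Cfsg.Agent.Lib.ChevGeneration.TwoGen

open Cfsg.Lie Cfsg.Agent.Lib.Chev
open scoped Matrix

/-- The permutation of the roots given by a word in the fundamental reflections. -/
def sig (C : Cert) (W : List ℕ) (r : ℕ) : ℕ := W.foldr (fun i a => refl C i a) r

/-- A coefficient divisible by the characteristic. -/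
def vanish (p : ℕ) (c : ℤ) : Bool := p != 0 && c.natAbs % p == 0

/-- A coefficient which is invertible. -/
def goodCoef (m : ℕ) (c : ℤ) : Bool := c.natAbs == 1 || (m != 0 && c.natAbs == m)

/-- Exactly one term is new, its root is `c` and it depends linearly on a free variable. -/
def newTerm (p m : ℕ) (S : List ℕ) (c : ℕ) (E : ℕ × ℕ → Bool) (l : List (ℕ × ℤ × ℕ × ℕ)) : Bool :=
  match l.filter (fun x => !(S.contains x.1 || vanish p x.2.1)) with
  | [x] => x.1 == c && goodCoef m x.2.1 && E x.2.2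
  | _ => false

/-- One step `(kind, a, b, c)` of a certificate. -/
def stepOK (D : ChevalleyDatum) (C : Cert) (W : List ℕ) (k p m : ℕ) (S : List ℕ)
    (st : ℕ × ℕ × ℕ × ℕ) : Bool :=
  let a := st.2.1
  let b := st.2.2.1
  let c := st.2.2.2
  match st.1 with
  | 0 => S.contains a && c == sig C W a
  | 1 => S.contains a && S.contains b && Nat.blt a D.nroots && Nat.blt b D.nroots && b != a && b != ng D a &&
      newTerm p m S c (fun e => e.1 == 1 || e.2 == 1) (cTerms C a b)
  | 4 => S.contains a && Nat.blt a D.nroots && Nat.blt k D.nroots && a != k && a != ng D k &&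
      (cTerms C (ng D k) a).all (fun x => vanish p x.2.1) &&
      newTerm p m S c (fun e => e.2 == 1) (cTerms C k a)
  | 5 => S.contains a && Nat.blt a D.nroots && Nat.blt k D.nroots && a != k && a != ng D k &&
      (cTerms C k a).all (fun x => vanish p x.2.1) &&
      newTerm p m S c (fun e => e.2 == 1) (cTerms C (ng D k) a)
  | _ => false

/-- A certificate reaching all fundamental roots and their negatives. -/
def runOK (D : ChevalleyDatum) (C : Cert) (W : List ℕ) (k p m : ℕ) : List ℕ → List (ℕ × ℕ × ℕ × ℕ) → Bool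
  | S, [] => (List.range D.rank).all fun i => S.contains (D.simple i) && S.contains (ng D (D.simple i))
  | S, st :: l => stepOK D C W k p m S st && runOK D C W k p m (st.2.2.2 :: S) l

/-- The word consists of fundamental reflections. -/
def wordOK (D : ChevalleyDatum) (W : List ℕ) : Bool := W.all fun i => Nat.blt i D.rank

variable {D : ChevalleyDatum} {C : Cert} {F : Type*} [Field F]

/-- `x_r(t)` as a unit (the identity out of range). -/
def xU (h : Checked D C) (F : Type*) [Field F] (r : ℕ) (t : F) : GL D.Idx F :=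
  if hr : r < D.nroots then xGL h F hr t else 1

/-- The product of a word in root elements as a unit. -/
def wordU (h : Checked D C) (w : List (ℕ × F)) : GL D.Idx F := (w.map fun q => xU h F q.1 q.2).prod

/-- `n_{p_i}(1)` as a unit. -/
noncomputable def nU (h : Checked D C) (F : Type*) [Field F] (i : ℕ) : GL D.Idx F :=
  if hi : i < D.rank then (h.nMat_isUnit hi).unit else 1

/-- The product of the `n_{p_i}(1)` along a word. -/
noncomputable def nW (h : Checked D C) (F : Type*) [Field F] (W : List ℕ) : GL D.Idx F :=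
  (W.map (nU h F)).prod

variable (h : Checked D C)
include h

theorem coe_xU (r : ℕ) (t : F) : ((xU h F r t : GL D.Idx F) : Matrix D.Idx D.Idx F) = D.x F r t := by
  unfold xU
  split_ifs with hr
  · rfl
  · simp [ChevalleyDatum.x, hr]

theorem xU_add (r : ℕ) (t u : F) : xU h F r t * xU h F r u = xU h F r (t + u) := by
  unfold xU
  split_ifs with hr
  · exact Units.ext (h.x_add hr t u)
  · simp

theorem xU_zero (r : ℕ) : xU h F r 0 = 1 := by
  unfold xU
  split_ifs with hr
  · exact Units.ext (h.x_zero hr)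
  · rfl

theorem xU_inv (r : ℕ) (t : F) : (xU h F r t)⁻¹ = xU h F r (-t) := by
  rw [inv_eq_iff_mul_eq_one, xU_add, add_neg_cancel, xU_zero]

theorem xU_pow (r : ℕ) (t : F) (n : ℕ) : xU h F r t ^ n = xU h F r (n * t) := by
  induction n with
  | zero => simp [xU_zero h]
  | succ n ih => rw [pow_succ, ih, xU_add]; congr 1; push_cast; ring

theorem xU_mem_group (r : ℕ) (t : F) : xU h F r t ∈ D.group F := by
  unfold xU
  split_ifs with hr
  · exact Subgroup.subset_closure ⟨⟨r, hr⟩, t, by
      show D.x F r t = _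
      rw [ChevalleyDatum.x, dif_pos hr]⟩
  · exact Subgroup.one_mem _

theorem coe_wordU (w : List (ℕ × F)) : ((wordU h w : GL D.Idx F) : Matrix D.Idx D.Idx F) = D.wordMat F w := by
  induction w with
  | nil => simp [wordU, ChevalleyDatum.wordMat]
  | cons q w ih =>
    simp only [wordU, List.map_cons, List.prod_cons, Units.val_mul, ChevalleyDatum.wordMat] at *
    rw [ih, coe_xU h]

theorem wordU_mem_group (w : List (ℕ × F)) : wordU h w ∈ D.group F :=
  Subgroup.list_prod_mem _ fun g hg => by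
    obtain ⟨q, _, rfl⟩ := List.mem_map.1 hg
    exact xU_mem_group h _ _

theorem comm_eq {r s : ℕ} (hr : r < D.nroots) (hs : s < D.nroots) (h1 : s ≠ r) (h2 : s ≠ ng D r) (t u : F) :
    xU h F s u * xU h F r t = xU h F r t * xU h F s u *
      wordU h ((cTerms C r s).map fun c => (c.1, (c.2.1 : F) * (-t) ^ c.2.2.1 * u ^ c.2.2.2)) := by
  refine Units.ext ?_
  simp only [Units.val_mul, coe_xU h, coe_wordU h]
  rw [← h.commWord_eq hr hs]
  exact h.commutator_formula hr hs h1 h2 t u

theorem wordU_eq_one {p : ℕ} (hp : (p : F) = 0) {l : List (ℕ × ℤ × ℕ × ℕ)}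
    (hl : l.all (fun x => vanish p x.2.1) = true) (v : ℕ × ℕ → F) :
    wordU h (l.map fun c => (c.1, (c.2.1 : F) * v c.2.2)) = 1 := by
  unfold wordU
  refine List.prod_eq_one fun g hg => ?_
  simp only [List.map_map, List.mem_map] at hg
  obtain ⟨x, hx, rfl⟩ := hg
  have hv := List.all_eq_true.1 hl x hx
  simp only [vanish, Bool.and_eq_true, bne_iff_ne, beq_iff_eq] at hv
  have : ((x.2.1 : ℤ) : F) = 0 := by
    obtain ⟨d, hd⟩ := Nat.dvd_of_mod_eq_zero hv.2
    rcases Int.natAbs_eq x.2.1 with e | e <;> rw [e, hd] <;> push_cast <;> simp [hp]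
  simp [this, xU_zero h]

theorem comm_of_all {p : ℕ} (hp : (p : F) = 0) {r s : ℕ} (hr : r < D.nroots) (hs : s < D.nroots)
    (h1 : s ≠ r) (h2 : s ≠ ng D r) (hl : (cTerms C r s).all (fun x => vanish p x.2.1) = true) (t u : F) :
    Commute (xU h F s u) (xU h F r t) := by
  have e := comm_eq h hr hs h1 h2 t u
  have := wordU_eq_one h hp hl (fun e => (-t) ^ e.1 * u ^ e.2)
  simp only [← mul_assoc] at this
  rw [this, mul_one] at e
  exact e

theorem exists_of_newTerm {p m : ℕ} (hp : (p : F) = 0) (hm : m ≠ 0 → (m : F) ≠ 0) {S : List ℕ} {c : ℕ}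
    {E : ℕ × ℕ → Bool} {l : List (ℕ × ℤ × ℕ × ℕ)} (hl : newTerm p m S c E l = true) {L : Subgroup (GL D.Idx F)}
    (hS : ∀ r ∈ S, ∀ t : F, xU h F r t ∈ L) :
    ∃ (γ : F) (e : ℕ × ℕ), γ ≠ 0 ∧ E e = true ∧ ∀ v : ℕ × ℕ → F,
      wordU h (l.map fun x => (x.1, (x.2.1 : F) * v x.2.2)) ∈ L → xU h F c (γ * v e) ∈ L := by
  unfold newTerm at hl
  split at hl
  swap
  · exact absurd hl (by simp)
  next x hx =>
  simp only [Bool.and_eq_true, beq_iff_eq] at hl
  obtain ⟨⟨rfl, hg⟩, hE⟩ := hl
  refine ⟨x.2.1, x.2.2, ?_, hE, fun v hv => ?_⟩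
  · simp only [goodCoef, Bool.or_eq_true, beq_iff_eq, Bool.and_eq_true, bne_iff_ne] at hg
    rcases hg with hg | ⟨hm0, hg⟩
    · rcases Int.natAbs_eq x.2.1 with e | e <;> rw [e, hg] <;> simp
    · rcases Int.natAbs_eq x.2.1 with e | e <;> rw [e, hg] <;> simpa using hm hm0
  obtain ⟨l₁, l₂, rfl, h₁, -, h₂⟩ := List.filter_eq_cons_iff.1 hx
  have hin : ∀ y : ℕ × ℤ × ℕ × ℕ, (!(S.contains y.1 || vanish p y.2.1)) ≠ true →
      xU h F y.1 ((y.2.1 : F) * v y.2.2) ∈ L := by
    intro y hy
    simp only [ne_eq, Bool.not_eq_true', Bool.not_eq_false, Bool.or_eq_true, List.contains_iff_mem] at hy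
    rcases hy with hy | hy
    · exact hS _ hy _
    · have := wordU_eq_one h hp (l := [y]) (by simpa using hy) v
      simp only [wordU, List.map_cons, List.map_nil, List.prod_cons, List.prod_nil, mul_one] at this
      rw [this]
      exact L.one_mem
  have hside : ∀ l' : List (ℕ × ℤ × ℕ × ℕ), (∀ y ∈ l', (!(S.contains y.1 || vanish p y.2.1)) ≠ true) →
      wordU h (l'.map fun y => (y.1, (y.2.1 : F) * v y.2.2)) ∈ L := fun l' hl' =>
    L.list_prod_mem fun g hg => by
      simp only [List.map_map, List.mem_map] at hg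
      obtain ⟨y, hy, rfl⟩ := hg
      exact hin y (hl' y hy)
  have e2 : ∀ y ∈ l₂, (!(S.contains y.1 || vanish p y.2.1)) ≠ true := List.filter_eq_nil_iff.1 h₂
  simp only [wordU, List.map_append, List.map_cons, List.prod_append, List.prod_cons] at hv
  have := L.mul_mem (L.mul_mem (L.inv_mem (hside l₁ h₁)) hv) (L.inv_mem (hside l₂ e2))
  simpa [wordU, mul_assoc] using this

theorem coe_nU {i : ℕ} (hi : i < D.rank) :
    ((nU h F i : GL D.Idx F) : Matrix D.Idx D.Idx F) = D.nMat F (D.simple i) 1 := by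
  simp [nU, dif_pos hi]

theorem nU_eq {i : ℕ} (hi : i < D.rank) :
    nU h F i = xU h F (D.simple i) 1 * xU h F (ng D (D.simple i)) (-1) * xU h F (D.simple i) 1 := by
  refine Units.ext ?_
  rw [coe_nU h hi, Units.val_mul, Units.val_mul, coe_xU h, coe_xU h]
  simp [ChevalleyDatum.nMat, ChevalleyDatum.nWord, ChevalleyDatum.wordMat, h.neg_eq (h.simple_lt hi), mul_assoc]

theorem nU_conj {i r : ℕ} (hi : i < D.rank) (hr : r < D.nroots) (t : F) :
    nU h F i * xU h F r t = xU h F (refl C i r) ((eta C i r : F) * t) * nU h F i := by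
  refine Units.ext ?_
  simp only [Units.val_mul, coe_xU h, coe_nU h hi]
  exact h.nMat_mul_x hi hr t

theorem nW_conj {W : List ℕ} (hW : wordOK D W = true) {r : ℕ} (hr : r < D.nroots) :
    sig C W r < D.nroots ∧
      ∃ e : F, e * e = 1 ∧ ∀ t : F, nW h F W * xU h F r t = xU h F (sig C W r) (e * t) * nW h F W := by
  induction W with
  | nil => exact ⟨hr, 1, one_mul 1, fun t => by simp [nW, sig]⟩
  | cons i W ih =>
    simp only [wordOK, List.all_cons, Bool.and_eq_true, Nat.blt_eq] at hW
    obtain ⟨hlt, e, he, hE⟩ := ih (by simp only [wordOK]; exact hW.2)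
    refine ⟨h.refl_lt hW.1 hlt, (eta C i (sig C W r) : F) * e, ?_, fun t => ?_⟩
    · rw [mul_mul_mul_comm, etaF_sq, he, one_mul]
    · have := hE t
      simp only [nW, List.map_cons, List.prod_cons] at this ⊢
      rw [mul_assoc, this, ← mul_assoc, nU_conj h hW.1 hlt, mul_assoc, mul_assoc]
      rfl

theorem nW_mem_group (W : List ℕ) : nW h F W ∈ D.group F :=
  Subgroup.list_prod_mem _ fun g hg => by
    obtain ⟨i, _, rfl⟩ := List.mem_map.1 hg
    by_cases hi : i < D.rank
    · rw [nU_eq h hi]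
      exact Subgroup.mul_mem _ (Subgroup.mul_mem _ (xU_mem_group h _ _) (xU_mem_group h _ _)) (xU_mem_group h _ _)
    · simp [nU, dif_neg hi]

theorem mem_sig {W : List ℕ} (hW : wordOK D W = true) {L : Subgroup (GL D.Idx F)} (hn : nW h F W ∈ L) {r : ℕ}
    (hr : r < D.nroots) {t : F} (ht : t ≠ 0) (hx : xU h F r t ∈ L) :
    ∃ u : F, u ≠ 0 ∧ xU h F (sig C W r) u ∈ L := by
  obtain ⟨_, e, he, hE⟩ := nW_conj h (F := F) hW hr
  refine ⟨e * t, mul_ne_zero (left_ne_zero_of_mul_eq_one he) ht, ?_⟩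
  have := L.mul_mem (L.mul_mem hn hx) (L.inv_mem hn)
  rwa [hE, mul_inv_cancel_right] at this

theorem roots_sig {W : List ℕ} (hW : wordOK D W = true) {L : Subgroup (GL D.Idx F)} (hn : nW h F W ∈ L) {r : ℕ}
    (hr : r < D.nroots) (hx : ∀ t : F, xU h F r t ∈ L) (t : F) : xU h F (sig C W r) t ∈ L := by
  obtain ⟨_, e, he, hE⟩ := nW_conj h (F := F) hW hr
  have := L.mul_mem (L.mul_mem hn (hx (e * t))) (L.inv_mem hn)
  rwa [hE, mul_inv_cancel_right, ← mul_assoc, he, one_mul] at this

omit h in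
/-- The certificate only leads to roots. -/
theorem cTerms_root (h : Checked D C) {p m : ℕ} {S : List ℕ} {c : ℕ} {E : ℕ × ℕ → Bool} {r s : ℕ}
    (hr : r < D.nroots) (hs : s < D.nroots) (hl : newTerm p m S c E (cTerms C r s) = true) : c < D.nroots := by
  unfold newTerm at hl
  split at hl
  swap
  · exact absurd hl (by simp)
  next x hx =>
  simp only [Bool.and_eq_true, beq_iff_eq] at hl
  have hmem : x ∈ cTerms C r s :=
    (List.mem_filter.1 (hx ▸ List.mem_singleton_self x)).1
  exact hl.1.1 ▸ h.cTerms_lt hr hs x hmem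

omit h in
/-- If a certificate succeeds, all of the Chevalley group is in `L`. -/
theorem group_le_of_runOK (hR : Rooted D C) {W : List ℕ} (hW : wordOK D W = true) {k p m : ℕ} (hp : (p : F) = 0)
    (hm : m ≠ 0 → (m : F) ≠ 0) {L : Subgroup (GL D.Idx F)} (hn : nW hR.toChecked F W ∈ L)
    (hz : k < D.nroots → xU hR.toChecked F k 1 * xU hR.toChecked F (ng D k) 1 ∈ L)
    (steps : List (ℕ × ℕ × ℕ × ℕ)) :
    ∀ S : List ℕ, (∀ r ∈ S, r < D.nroots ∧ ∀ t : F, xU hR.toChecked F r t ∈ L) →
      runOK D C W k p m S steps = true → D.group F ≤ L := by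
  have h := hR.toChecked
  induction steps with
  | nil =>
    intro S hS hend
    simp only [runOK, List.all_eq_true, List.mem_range, Bool.and_eq_true, List.contains_iff_mem] at hend
    have hsim : ∀ i < D.rank, ∀ t : F, xU h F (D.simple i) t ∈ L := fun i hi => (hS _ (hend i hi).1).2
    have hall : ∀ r < D.nroots, ∀ t : F, xU h F r t ∈ L :=
      hR.root_induction hsim fun i hi r hr hx t => by
        have hnU : nU h F i ∈ L := by
          rw [nU_eq h hi]
          exact L.mul_mem (L.mul_mem (hsim i hi _) ((hS _ (hend i hi).2).2 _)) (hsim i hi _)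
        have := L.mul_mem (L.mul_mem hnU (hx ((eta C i r : F) * t))) (L.inv_mem hnU)
        rwa [nU_conj h hi hr, mul_inv_cancel_right, ← mul_assoc, etaF_sq, one_mul] at this
    unfold ChevalleyDatum.group
    rw [Subgroup.closure_le]
    rintro g ⟨r, t, e⟩
    have : g = xU h F r t := Units.ext (by rw [e, coe_xU h, ChevalleyDatum.x, dif_pos r.isLt])
    exact this ▸ hall r r.isLt t
  | cons st steps ih =>
    obtain ⟨kind, a, b, c⟩ := st
    intro S hS hend
    simp only [runOK, Bool.and_eq_true] at hend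
    refine ih _ (fun r hr => ?_) hend.2
    rcases List.mem_cons.1 hr with rfl | hr
    swap
    · exact hS r hr
    have hst := hend.1
    unfold stepOK at hst
    dsimp only at hst
    split at hst
    · simp only [Bool.and_eq_true, beq_iff_eq, List.contains_iff_mem] at hst
      obtain ⟨ha, rfl⟩ := hst
      exact ⟨(nW_conj h (F := F) hW (hS a ha).1).1, roots_sig h hW hn (hS a ha).1 (hS a ha).2⟩
    · simp only [Bool.and_eq_true, List.contains_iff_mem, Nat.blt_eq, bne_iff_ne] at hst
      obtain ⟨⟨⟨⟨⟨⟨ha, hb⟩, ha'⟩, hb'⟩, hne⟩, hng⟩, hnew⟩ := hst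
      refine ⟨cTerms_root h ha' hb' hnew, fun w => ?_⟩
      obtain ⟨γ, e, hγ, hE, hH⟩ := exists_of_newTerm h hp hm hnew (L := L) fun r hr => (hS r hr).2
      have hword : ∀ t u : F, xU h F r (γ * ((-t) ^ e.1 * u ^ e.2)) ∈ L := fun t u => by
        refine hH (fun e => (-t) ^ e.1 * u ^ e.2) ?_
        have e1 := comm_eq h ha' hb' hne hng t u
        simp only [mul_assoc] at e1 ⊢
        have : wordU h ((cTerms C a b).map fun x => (x.1, (x.2.1 : F) * ((-t) ^ x.2.2.1 * u ^ x.2.2.2))) =
            (xU h F a t * xU h F b u)⁻¹ * (xU h F b u * xU h F a t) := by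
          rw [e1]; group
        rw [this]
        exact L.mul_mem (L.inv_mem (L.mul_mem ((hS a ha).2 _) ((hS b hb).2 _)))
          (L.mul_mem ((hS b hb).2 _) ((hS a ha).2 _))
      simp only [Bool.or_eq_true, beq_iff_eq] at hE
      rcases hE with hE | hE
      · have := hword (-(w / γ)) 1
        rwa [hE, pow_one, one_pow, mul_one, neg_neg, mul_div_cancel₀ _ hγ] at this
      · have := hword (-1) (w / γ)
        rwa [hE, pow_one, neg_neg, one_pow, one_mul, mul_div_cancel₀ _ hγ] at this
    · simp only [Bool.and_eq_true, List.contains_iff_mem, Nat.blt_eq, bne_iff_ne, beq_iff_eq] at hst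
      obtain ⟨⟨⟨⟨⟨⟨ha, ha'⟩, hk⟩, hne⟩, hng⟩, hcom⟩, hnew⟩ := hst
      refine ⟨cTerms_root h hk ha' hnew, fun w => ?_⟩
      obtain ⟨γ, e, hγ, hE, hH⟩ := exists_of_newTerm h hp hm hnew (L := L) fun r hr => (hS r hr).2
      simp only [beq_iff_eq] at hE
      have hk' : ng D k < D.nroots := Checked.ng_lt hk
      have hc2 := fun u : F => comm_of_all h hp hk' ha' hng (by rwa [Checked.ng_ng hk]) hcom 1 u
      have hu : ∀ u : F, xU h F r (γ * ((1 : F) ^ e.1 * u ^ e.2)) ∈ L := fun u => by
        refine hH (fun e => (1 : F) ^ e.1 * u ^ e.2) ?_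
        have e1 := comm_eq h hk ha' hne hng (-1) u
        rw [neg_neg] at e1
        simp only [mul_assoc] at e1 ⊢
        have hconj : (xU h F k 1 * xU h F (ng D k) 1) * xU h F a u * (xU h F k 1 * xU h F (ng D k) 1)⁻¹ =
            xU h F k 1 * xU h F a u * xU h F k (-1) := by
          rw [mul_inv_rev, mul_assoc (xU h F k 1) _ (xU h F a u), ← (hc2 u).eq, ← xU_inv h]
          group
        have : wordU h ((cTerms C k a).map fun x => (x.1, (x.2.1 : F) * ((1 : F) ^ x.2.2.1 * u ^ x.2.2.2))) =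
            (xU h F a u)⁻¹ *
              ((xU h F k 1 * xU h F (ng D k) 1) * xU h F a u * (xU h F k 1 * xU h F (ng D k) 1)⁻¹) := by
          rw [hconj, mul_assoc (xU h F k 1), e1, ← xU_inv h]
          group
        rw [this]
        exact L.mul_mem (L.inv_mem ((hS a ha).2 _))
          (L.mul_mem (L.mul_mem (hz hk) ((hS a ha).2 _)) (L.inv_mem (hz hk)))
      have := hu (w / γ)
      rwa [hE, one_pow, one_mul, pow_one, mul_div_cancel₀ _ hγ] at this
    · simp only [Bool.and_eq_true, List.contains_iff_mem, Nat.blt_eq, bne_iff_ne, beq_iff_eq] at hst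
      obtain ⟨⟨⟨⟨⟨⟨ha, ha'⟩, hk⟩, hne⟩, hng⟩, hcom⟩, hnew⟩ := hst
      have hk' : ng D k < D.nroots := Checked.ng_lt hk
      refine ⟨cTerms_root h hk' ha' hnew, fun w => ?_⟩
      obtain ⟨γ, e, hγ, hE, hH⟩ := exists_of_newTerm h hp hm hnew (L := L) fun r hr => (hS r hr).2
      simp only [beq_iff_eq] at hE
      have hc2 := fun u : F => comm_of_all h hp hk ha' hne hng hcom 1 u
      have hu : ∀ u : F, xU h F r (γ * ((-1 : F) ^ e.1 * u ^ e.2)) ∈ L := fun u => by
        refine hH (fun e => (-1 : F) ^ e.1 * u ^ e.2) ?_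
        have e1 := comm_eq h hk' ha' hng (by rwa [Checked.ng_ng hk]) 1 u
        simp only [mul_assoc] at e1 ⊢
        have hconj : (xU h F k 1 * xU h F (ng D k) 1)⁻¹ * xU h F a u * (xU h F k 1 * xU h F (ng D k) 1) =
            (xU h F (ng D k) 1)⁻¹ * xU h F a u * xU h F (ng D k) 1 := by
          rw [mul_inv_rev, mul_assoc, ← mul_assoc (xU h F a u), (hc2 u).eq]
          group
        have : wordU h ((cTerms C (ng D k) a).map fun x => (x.1, (x.2.1 : F) * ((-1 : F) ^ x.2.2.1 * u ^ x.2.2.2))) =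
            (xU h F a u)⁻¹ *
              ((xU h F k 1 * xU h F (ng D k) 1)⁻¹ * xU h F a u * (xU h F k 1 * xU h F (ng D k) 1)) := by
          rw [hconj, mul_assoc (xU h F (ng D k) 1)⁻¹, e1]
          group
        rw [this]
        exact L.mul_mem (L.inv_mem ((hS a ha).2 _))
          (L.mul_mem (L.mul_mem (L.inv_mem (hz hk)) ((hS a ha).2 _)) (hz hk))
      have := hu ((-1 : F) ^ e.1 * (w / γ))
      rwa [hE, pow_one, ← mul_assoc ((-1 : F) ^ e.1), ← mul_pow, neg_one_mul, neg_neg, one_pow, one_mul,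
        mul_div_cancel₀ _ hγ] at this
    · simp at hst

end Cfsg.Agent.Lib.ChevGeneration.TwoGen
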