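import Cfsg.Agent.Lib.ChevGeneration.TwoGen

/-!
Three kinds of generating pairs of a Chevalley group over a finite field.
-/

set_option autoImplicit false

namespace Cfsg.Agent.Lib.ChevGeneration.TwoGen

open Cfsg.Lie Cfsg.Agent.Lib.Chev
open scoped Matrix

variable {D : ChevalleyDatum} {C : Cert} {F : Type*} [Field F]

theorem exists_pair {G : Type*} [Group G] {H : Subgroup G} {a b : G} (ha : a ∈ H) (hb : b ∈ H)
    (hle : H ≤ Subgroup.closure {a, b}) :
    ∃ x y : ↥H, Subgroup.closure ({x, y} : Set ↥H) = ⊤ := by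
  refine ⟨⟨a, ha⟩, ⟨b, hb⟩, Subgroup.map_injective H.subtype_injective ?_⟩
  rw [MonoidHom.map_closure, Set.image_pair, ← MonoidHom.range_eq_map, Subgroup.range_subtype]
  refine le_antisymm ?_ hle
  rw [Subgroup.closure_le]
  rintro g (rfl | rfl)
  exacts [ha, hb]

/-- `h_v(c)` as a unit. -/
def hU (h : Checked D C) (v : ℕ) (c : Fˣ) : GL D.Idx F := wordU h (D.hWord v (c : F))

section
variable (h : Checked D C)
include h

theorem all_of_prime_card [Finite F] (hq : (Nat.card F).Prime) {L : Subgroup (GL D.Idx F)} {r : ℕ} {β : F}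
    (hβ : β ≠ 0) (hmem : xU h F r β ∈ L) (t : F) : xU h F r t ∈ L := by
  have : Fact (Nat.card F).Prime := ⟨hq⟩
  let A : AddSubgroup F :=
    { carrier := {u | xU h F r u ∈ L}
      zero_mem' := by simp [xU_zero h, L.one_mem]
      add_mem' := fun {u w} hu hw => by simpa [xU_add h] using L.mul_mem hu hw
      neg_mem' := fun {u} hu => by simpa [xU_inv h] using L.inv_mem hu }
  have ht : t ∈ AddSubgroup.zmultiples β := by
    rw [zmultiples_eq_top_of_prime_card rfl hβ]; trivial
  exact AddSubgroup.zmultiples_le.2 (show β ∈ A from hmem) ht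

theorem mem_sig_iterate {W : List ℕ} (hW : wordOK D W = true) {L : Subgroup (GL D.Idx F)}
    (hn : nW h F W ∈ L) {s : ℕ} (hs : s < D.nroots) {t : F} (ht : t ≠ 0) (hx : xU h F s t ∈ L) (j : ℕ) :
    (sig C W)^[j] s < D.nroots ∧ ∃ u : F, u ≠ 0 ∧ xU h F ((sig C W)^[j] s) u ∈ L := by
  induction j with
  | zero => exact ⟨hs, t, ht, hx⟩
  | succ j ih =>
    rw [Function.iterate_succ_apply']
    obtain ⟨hlt, u, hu, hxu⟩ := ih
    exact ⟨(nW_conj h (F := F) hW hlt).1, mem_sig h hW hn hlt hu hxu⟩

/-- The generators `x_s(1)` and `n`, over a field of prime order. -/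
theorem schemeP [Finite F] (hR : Rooted D C) (hq : (Nat.card F).Prime) {W : List ℕ} {p m s : ℕ}
    (hp : (p : F) = 0) (hm : m ≠ 0 → (m : F) ≠ 0) {steps : List (ℕ × ℕ × ℕ × ℕ)}
    (hok : (wordOK D W && Nat.blt s D.nroots && runOK D C W D.nroots p m [s] steps) = true) :
    ∃ a b : ↥(D.group F), Subgroup.closure ({a, b} : Set ↥(D.group F)) = ⊤ := by
  simp only [Bool.and_eq_true, Nat.blt_eq] at hok
  obtain ⟨⟨hW, hs⟩, hrun⟩ := hok
  refine exists_pair (xU_mem_group hR.toChecked s (1 : F)) (nW_mem_group hR.toChecked W) ?_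
  refine group_le_of_runOK hR hW hp hm (Subgroup.subset_closure (Or.inr rfl))
    (fun hk => absurd hk (lt_irrefl _)) steps [s] (fun r hr => ?_) hrun
  rw [List.mem_singleton.1 hr]
  exact ⟨hs, all_of_prime_card hR.toChecked hq one_ne_zero (Subgroup.subset_closure (Or.inl rfl))⟩

end

section
variable (h : Rooted D C)
include h

theorem coe_hU {v : ℕ} (hv : v < D.nroots) (c : Fˣ) :
    ((hU h.toChecked v c : GL D.Idx F) : Matrix D.Idx D.Idx F) =
      D.charDiag F (fun s => c ^ D.pairing v s) := by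
  rw [hU, coe_wordU, ← powDiag_eq_charDiag, ← h.hMat_eq hv]
  rfl

theorem hU_mul {v : ℕ} (hv : v < D.nroots) (c d : Fˣ) :
    hU h.toChecked v c * hU h.toChecked v d = hU h.toChecked v (c * d) := by
  refine Units.ext ?_
  rw [Units.val_mul, coe_hU h hv, coe_hU h hv, coe_hU h hv, charDiag_mul]
  congr 1
  funext s
  rw [mul_zpow]

theorem hU_one {v : ℕ} (hv : v < D.nroots) : hU h.toChecked v (1 : Fˣ) = 1 := by
  refine Units.ext ?_
  rw [coe_hU h hv]
  simp [charDiag_one]

theorem hU_inv {v : ℕ} (hv : v < D.nroots) (c : Fˣ) : (hU h.toChecked v c)⁻¹ = hU h.toChecked v c⁻¹ := by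
  rw [inv_eq_iff_mul_eq_one, hU_mul h hv, mul_inv_cancel, hU_one h hv]

theorem hU_pow {v : ℕ} (hv : v < D.nroots) (c : Fˣ) (n : ℕ) :
    hU h.toChecked v c ^ n = hU h.toChecked v (c ^ n) := by
  induction n with
  | zero => simp [hU_one h hv]
  | succ n ih => rw [pow_succ, ih, hU_mul h hv, pow_succ]

theorem hU_comm {v w : ℕ} (hv : v < D.nroots) (hw : w < D.nroots) (c d : Fˣ) :
    Commute (hU h.toChecked v c) (hU h.toChecked w d) := by
  refine Units.ext ?_
  rw [Units.val_mul, Units.val_mul, coe_hU h hv, coe_hU h hw, charDiag_mul, charDiag_mul]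
  congr 1
  funext s
  rw [mul_comm]

theorem chiOf_pairing {v a : ℕ} (hv : v < D.nroots) (ha : a < D.nroots) (u : Fˣ) :
    chiOf D C (fun j => u ^ D.pairing v (D.simple j)) a = u ^ D.pairing v a := by
  have hc := h.toChecked
  have e : D.pairing v a =
      ∑ j ∈ Finset.range D.rank, coef D C j a * D.pairing v (D.simple j) := by
    rw [hc.pairing_eq hv]
    simp_rw [hc.pairing_eq hv, Finset.mul_sum]
    rw [Finset.sum_comm]
    refine Finset.sum_congr rfl fun k hk => ?_
    rw [hc.cartan_eq (Finset.mem_range.1 hk) ha, zsum_eq, Finset.mul_sum]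
    refine Finset.sum_congr rfl fun j hj => ?_
    rw [hc.cm_eq (Finset.mem_range.1 hj) (Finset.mem_range.1 hk)]
    ring
  rw [chiOf, e]
  suffices ∀ S : Finset ℕ, ∏ j ∈ S, (u ^ D.pairing v (D.simple j)) ^ coef D C j a =
      u ^ ∑ j ∈ S, coef D C j a * D.pairing v (D.simple j) from this _
  intro S
  induction S using Finset.induction_on with
  | empty => simp
  | insert j S hj ih => rw [Finset.prod_insert hj, Finset.sum_insert hj, ih, zpow_add, ← zpow_mul, mul_comm (coef D C j a)]

theorem hU_x {v r : ℕ} (hv : v < D.nroots) (hr : r < D.nroots) (c : Fˣ) (t : F) :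
    hU h.toChecked v c * xU h.toChecked F r t =
      xU h.toChecked F r (((c ^ D.pairing v r : Fˣ) : F) * t) * hU h.toChecked v c := by
  refine Units.ext ?_
  simp only [Units.val_mul, coe_xU, coe_hU h hv]
  exact h.toChecked.charDiag_mul_x_of_eq _ hr t fun a ha => chiOf_pairing h hv ha c

theorem nU_hU {i v : ℕ} (hi : i < D.rank) (hv : v < D.nroots) (c : Fˣ) :
    nU h.toChecked F i * hU h.toChecked v c = hU h.toChecked (refl C i v) c * nU h.toChecked F i := by
  have hc := h.toChecked
  refine Units.ext ?_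
  rw [Units.val_mul, Units.val_mul, coe_hU h hv, coe_hU h (hc.refl_lt hi hv), coe_nU hc hi]
  refine matrix_ext fun a ha => ?_
  simp only [← Matrix.mulVec_mulVec]
  by_cases hs : a < D.nroots
  · simp only [hc.nMat_bv_root hi hs, charDiag_mulVec_root _ hs,
      charDiag_mulVec_root _ (hc.refl_lt hi hs), Matrix.mulVec_smul, smul_smul, hc.pairing_refl hi hv hs]
    rw [mul_comm]
  · obtain ⟨j, rfl⟩ := Nat.exists_eq_add_of_le (Nat.le_of_not_lt hs)
    simp only [hc.nMat_bv_h hi (show j < D.rank by omega), charDiag_mulVec_h, Matrix.mulVec_sub,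
      Matrix.mulVec_smul]

theorem nW_hU {W : List ℕ} (hW : wordOK D W = true) {v : ℕ} (hv : v < D.nroots) (c : Fˣ) :
    nW h.toChecked F W * hU h.toChecked v c = hU h.toChecked (sig C W v) c * nW h.toChecked F W := by
  induction W with
  | nil => simp [nW, sig]
  | cons i W ih =>
    simp only [wordOK, List.all_cons, Bool.and_eq_true, Nat.blt_eq] at hW
    have hW' : wordOK D W = true := by simp only [wordOK]; exact hW.2
    have := ih hW'
    simp only [nW, List.map_cons, List.prod_cons] at this ⊢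
    rw [mul_assoc, this, ← mul_assoc, nU_hU h hW.1 (nW_conj h.toChecked (F := F) hW' hv).1, mul_assoc]
    rfl

/-- A root element with a non-zero parameter and the torus of `v` give the whole root subgroup. -/
theorem all_of_torus [Finite F] {L : Subgroup (GL D.Idx F)} {v r : ℕ} (hv : v < D.nroots) (hr : r < D.nroots)
    (hH : ∀ u : Fˣ, hU h.toChecked v u ∈ L) (he : (D.pairing v r).natAbs = 1 ∨ (D.pairing v r).natAbs = 2)
    {β : F} (hβ : β ≠ 0) (hmem : xU h.toChecked F r β ∈ L) (t : F) : xU h.toChecked F r t ∈ L := by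
  have hc := h.toChecked
  have hscale : ∀ (u : Fˣ) (y : F), xU hc F r y ∈ L → xU hc F r (((u ^ D.pairing v r : Fˣ) : F) * y) ∈ L := by
    intro u y hy
    have := L.mul_mem (L.mul_mem (hH u) hy) (L.inv_mem (hH u))
    rwa [hU_x h hv hr, mul_inv_cancel_right] at this
  have hsq : ∀ z : F, xU hc F r (z * z * β) ∈ L := by
    intro z
    by_cases hz : z = 0
    · subst hz; simp [xU_zero hc, L.one_mem]
    have key : ∀ u : Fˣ, u ^ D.pairing v r = Units.mk0 z hz ^ 2 → xU hc F r (z * z * β) ∈ L := fun u hu => by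
      have := hscale u β hmem
      rwa [hu, Units.val_pow_eq_pow_val, Units.val_mk0, pow_two] at this
    rcases he with he | he <;> rcases Int.natAbs_eq (D.pairing v r) with e | e <;> rw [he] at e <;>
      push_cast at e
    · exact key (Units.mk0 z hz ^ 2) (by rw [e, zpow_one])
    · exact key (Units.mk0 z hz ^ 2)⁻¹ (by rw [e]; simp)
    · exact key (Units.mk0 z hz) (by rw [e]; norm_cast)
    · exact key (Units.mk0 z hz)⁻¹ (by rw [e, zpow_neg, inv_zpow', zpow_neg, inv_inv]; norm_cast)
  by_cases h2 : (2 : F) = 0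
  · have : CharP F 2 := CharTwo.of_one_ne_zero_of_two_eq_zero one_ne_zero h2
    obtain ⟨z, hz⟩ : IsSquare (t / β) :=
      FiniteField.isSquare_of_char_two (ringChar.eq F 2) _
    have := hsq z
    rwa [← hz, div_mul_cancel₀ _ hβ] at this
  · set y := t / β / (2 * 2) + 1 with hy
    set z := t / β / (2 * 2) - 1 with hz
    have := L.mul_mem (hsq y) (L.inv_mem (hsq z))
    rw [xU_inv hc, xU_add hc] at this
    convert this using 2
    rw [hy, hz]
    field_simp
    ring

/-- The generators `h_v(c) x_s(1)` and `x_l(1) n`, over a field with at least four elements. -/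
theorem schemeT [Finite F] (hq : 4 ≤ Nat.card F) {W : List ℕ} {v s l j : ℕ} {steps : List (ℕ × ℕ × ℕ × ℕ)}
    (hok : (wordOK D W && Nat.blt v D.nroots && Nat.blt s D.nroots && Nat.blt l D.nroots &&
      (D.pairing v s == 0) && ((D.pairing v l).natAbs == 1 || (D.pairing v l).natAbs == 2) &&
      ((D.pairing (sig C W v) l).natAbs == 1 || (D.pairing (sig C W v) l).natAbs == 2) &&
      ((D.pairing v ((sig C W)^[j] s)).natAbs == 1 || (D.pairing v ((sig C W)^[j] s)).natAbs == 2) &&
      runOK D C W D.nroots 0 0 [l, (sig C W)^[j] s] steps) = true) :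
    ∃ a b : ↥(D.group F), Subgroup.closure ({a, b} : Set ↥(D.group F)) = ⊤ := by
  simp only [Bool.and_eq_true, Bool.or_eq_true, Nat.blt_eq, beq_iff_eq] at hok
  obtain ⟨⟨⟨⟨⟨⟨⟨⟨hW, hv⟩, hs⟩, hl⟩, h0⟩, hel⟩, hel'⟩, hej⟩, hrun⟩ := hok
  have hc := h.toChecked
  obtain ⟨c, hcgen⟩ := IsCyclic.exists_monoid_generator (α := Fˣ)
  have hord : orderOf c = Nat.card F - 1 := by
    rw [orderOf_eq_card_of_forall_mem_powers hcgen, Nat.card_units]
  have hne : ∀ e : ℤ, e.natAbs = 1 ∨ e.natAbs = 2 → c ^ e ≠ 1 := by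
    intro e he hce
    have hd : orderOf c ∣ e.natAbs := Int.natCast_dvd.1 (orderOf_dvd_iff_zpow_eq_one.2 hce)
    have := Nat.le_of_dvd (by omega) hd
    omega
  set ga := hU hc v c * xU hc F s 1 with hga
  set gb := xU hc F l 1 * nW hc F W with hgb
  have hmemh : hU hc v c ∈ D.group F := wordU_mem_group hc _
  refine exists_pair (a := ga) (b := gb) (Subgroup.mul_mem _ hmemh (xU_mem_group hc _ _))
    (Subgroup.mul_mem _ (xU_mem_group hc _ _) (nW_mem_group hc W)) ?_
  set L := Subgroup.closure ({ga, gb} : Set (GL D.Idx F))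
  have haL : ga ∈ L := Subgroup.subset_closure (Or.inl rfl)
  have hbL : gb ∈ L := Subgroup.subset_closure (Or.inr rfl)
  have hcomm : Commute (hU hc v c) (xU hc F s 1) := by
    show _ = _
    rw [hU_x h hv hs, h0, zpow_zero, Units.val_one, one_mul]
  have hs1 : xU hc F s (-1) ∈ L := by
    have := L.pow_mem haL (Nat.card F - 1)
    have hcpow : c ^ (Nat.card F - 1) = 1 := by rw [← hord, pow_orderOf_eq_one]
    rw [hga, hcomm.mul_pow, hU_pow h hv, hcpow, hU_one h hv, one_mul, xU_pow, mul_one] at this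
    haveI ftF : Fintype F := Fintype.ofFinite F
    rw [Nat.cast_sub (by omega : 1 ≤ Nat.card F), Nat.card_eq_fintype_card, FiniteField.cast_card_eq_zero,
      zero_sub, Nat.cast_one] at this
    exact this
  have hh : hU hc v c ∈ L := by
    have := L.mul_mem haL hs1
    rwa [hga, mul_assoc, xU_add, add_neg_cancel, xU_zero, mul_one] at this
  have hH : ∀ u : Fˣ, hU hc v u ∈ L := by
    intro u
    obtain ⟨n, rfl⟩ : ∃ n : ℕ, c ^ n = u := hcgen u
    rw [← hU_pow h hv]
    exact L.pow_mem hh n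
  have hv' := (nW_conj hc (F := F) hW hv).1
  set α : F := ((c ^ D.pairing v l : Fˣ) : F) with hα
  set β : F := ((c⁻¹ ^ D.pairing (sig C W v) l : Fˣ) : F) with hβ
  set γ : F := α - α * β with hγ
  set G := hU hc v c * hU hc (sig C W v) c⁻¹ with hG
  have hb' : xU hc F l γ * G ∈ L := by
    have := L.mul_mem (L.mul_mem (L.mul_mem hh hbL) (L.inv_mem hh)) (L.inv_mem hbL)
    convert this using 1
    rw [hU_inv h hv, hgb, mul_inv_rev, xU_inv]
    calc xU hc F l γ * G
        = xU hc F l α * (xU hc F l (α * (β * -1)) * hU hc v c) * hU hc (sig C W v) c⁻¹ := by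
          rw [hG, ← mul_assoc (xU hc F l α), xU_add, mul_assoc]
          congr 1
          rw [hγ]; ring_nf
      _ = xU hc F l α * hU hc v c * (hU hc (sig C W v) c⁻¹ * xU hc F l (-1)) := by
          rw [← hU_x h hv hl, hU_x h hv' hl, ← hβ]
          simp only [mul_assoc]
      _ = hU hc v c * xU hc F l 1 * (hU hc (sig C W v) c⁻¹ * xU hc F l (-1)) := by
          rw [hU_x h hv hl, ← hα, mul_one]
      _ = _ := by
          have e := nW_hU h (F := F) hW hv c⁻¹
          rw [← mul_assoc, ← mul_assoc, ← mul_assoc, mul_assoc _ (nW hc F W) (hU hc v c⁻¹), e]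
          simp only [mul_assoc, mul_inv_cancel_left]
  have hl1 : xU hc F l (α * γ - γ) ∈ L := by
    have := L.mul_mem (L.mul_mem (L.mul_mem hh hb') (L.inv_mem hh)) (L.inv_mem hb')
    convert this using 1
    have eG : Commute G (hU hc v c) := (hU_comm h hv hv c c).mul_left (hU_comm h hv' hv c⁻¹ c)
    rw [mul_inv_rev, ← mul_assoc (hU hc v c), hU_x h hv hl, ← hα, mul_assoc _ (hU hc v c) G, ← eG.eq,
      xU_inv, ← mul_assoc _ G, mul_inv_cancel_right, ← mul_assoc, mul_inv_cancel_right, xU_add, sub_eq_add_neg]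
  have hγ0 : γ ≠ 0 := by
    rw [hγ, ← mul_one_sub]
    refine mul_ne_zero (Units.ne_zero _) (sub_ne_zero.2 fun e => ?_)
    have e' : c⁻¹ ^ D.pairing (sig C W v) l = 1 := Units.ext e.symm
    rw [inv_zpow, inv_eq_one] at e'
    exact hne _ hel' e'
  have hne1 : α * γ - γ ≠ 0 := by
    rw [← sub_one_mul]
    refine mul_ne_zero (sub_ne_zero.2 fun e => hne _ hel (Units.ext e)) hγ0
  have hall : ∀ t : F, xU hc F l t ∈ L := all_of_torus h hv hl hH hel hne1 hl1
  have hn : nW hc F W ∈ L := by
    have := L.mul_mem (L.inv_mem (hall 1)) hbL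
    rwa [hgb, inv_mul_cancel_left] at this
  obtain ⟨hr, u, hu, hxu⟩ := mem_sig_iterate hc hW hn hs (neg_ne_zero.2 one_ne_zero) hs1 j
  refine group_le_of_runOK h hW (by simp) (fun e => absurd rfl e) hn
    (fun hk => absurd hk (lt_irrefl _)) steps _ (fun r hr' => ?_) hrun
  simp only [List.mem_cons, List.not_mem_nil, or_false] at hr'
  rcases hr' with rfl | rfl
  · exact ⟨hl, hall⟩
  · exact ⟨hr, all_of_torus h hv hr hH hej hu hxu⟩

/-- `z = x_k(1) x_{-k}(1)` for a fundamental root `k` has order prime to the characteristic `2` or `3`. -/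
theorem exists_pow_z [Finite F] {i : ℕ} (hi : i < D.rank) {p : ℕ} (hp23 : p = 2 ∨ p = 3) (hp : (p : F) = 0) :
    ∃ m : ℕ, (m : F) ≠ 0 ∧
      (xU h.toChecked F (D.simple i) 1 * xU h.toChecked F (ng D (D.simple i)) 1) ^ m = 1 := by
  have hc := h.toChecked
  have hk := hc.simple_lt hi
  set k := D.simple i
  set x := fun t : F => xU hc F k t with hx
  set y := fun t : F => xU hc F (ng D k) t with hy
  rcases hp23 with rfl | rfl
  · refine ⟨3, fun e => one_ne_zero (α := F) (by push_cast at e hp; linear_combination e - hp), ?_⟩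
    have hneg : (-1 : F) = 1 := by push_cast at hp; linear_combination -hp
    have hn : nU hc F i = x 1 * y 1 * x 1 := by rw [nU_eq hc hi, hneg]
    have hxx : x 1 * x 1 = 1 := by
      simp only [hx, xU_add]; rw [show (1 : F) + 1 = 0 by linear_combination hp, xU_zero]
    have hyy : y 1 * y 1 = 1 := by
      simp only [hy, xU_add]; rw [show (1 : F) + 1 = 0 by linear_combination hp, xU_zero]
    have hconj : nU hc F i * x 1 = y 1 * nU hc F i := by
      simp only [hx, hy]
      rw [nU_conj hc hi hk, hc.simple_refl hi]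
      rcases eta_cases (C := C) i k with e | e <;> rw [e] <;> simp [hneg, k]
    have hz : x 1 * y 1 = nU hc F i * x 1 := by rw [hn, mul_assoc _ (x 1) (x 1), hxx, mul_one]
    show (x 1 * y 1) ^ 3 = 1
    have h2 : x 1 * y 1 * (x 1 * y 1) = y 1 * x 1 := by
      conv_lhs => rw [hz, ← mul_assoc, mul_assoc (nU hc F i) (x 1) (nU hc F i)]
      have h3 : nU hc F i * nU hc F i = 1 := by
        refine Units.ext ?_
        rw [Units.val_mul, coe_nU hc hi, Units.val_one]
        have := hc.nMat_mul_nMat_neg (F := F) hk 1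
        rwa [hneg] at this
      rw [← mul_assoc (nU hc F i), hconj, mul_assoc (y 1), h3, mul_one]
    rw [pow_succ, pow_two, h2, mul_assoc, ← mul_assoc (x 1), hxx, one_mul, hyy]
  · have h3 : (3 : F) = 0 := by exact_mod_cast hp
    refine ⟨4, fun e => one_ne_zero (α := F) (by push_cast at e; linear_combination e - h3), ?_⟩
    set n' := x (-1) * y 1 * x (-1) with hn'
    have hz : x 1 * y 1 = x (1 + 1) * n' * x 1 := by
      have e1 : x (1 + 1) * x (-1) = x 1 := by
        simp only [hx, xU_add]; congr 1; ring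
      have e2 : x (-1) * x 1 = 1 := by simp only [hx, xU_add, neg_add_cancel, xU_zero]
      rw [hn', ← mul_assoc, ← mul_assoc, e1, mul_assoc _ (x (-1)) (x 1), e2, mul_one]
    have hsq : n' * n' = hU hc k (-1) := by
      refine Units.ext ?_
      rw [Units.val_mul, hU, coe_wordU hc]
      have e : ((n' : GL D.Idx F) : Matrix D.Idx D.Idx F) = D.nMat F k (-1) := by
        simp only [hn', hx, hy, Units.val_mul, coe_xU hc]
        simp [ChevalleyDatum.nMat, ChevalleyDatum.nWord, ChevalleyDatum.wordMat, hc.neg_eq hk, mul_assoc]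
      rw [e, ← hc.hMat_eq_mul (r := k) (-1 : F)]
      simp [ChevalleyDatum.hMat]
    have hzz : (x 1 * y 1) * (x 1 * y 1) = hU hc k (-1) := by
      have e30 : x 1 * x (1 + 1) = 1 := by
        simp only [hx, xU_add]; rw [show (1 : F) + (1 + 1) = 0 by linear_combination h3, xU_zero]
      rw [hz]
      calc x (1 + 1) * n' * x 1 * (x (1 + 1) * n' * x 1)
          = x (1 + 1) * n' * (x 1 * x (1 + 1)) * n' * x 1 := by simp only [mul_assoc]
        _ = x (1 + 1) * (n' * n') * x 1 := by rw [e30, mul_one]; simp only [mul_assoc]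
        _ = _ := by
          rw [hsq, mul_assoc]
          simp only [hx]
          rw [hU_x h hk hk, h.pairing_self hk]
          simp only [← mul_assoc, xU_add]
          norm_num
          rw [h3, xU_zero]
    show (x 1 * y 1) ^ 4 = 1
    rw [show (4 : ℕ) = 2 * 2 from rfl, pow_mul, pow_two (x 1 * y 1), hzz, hU_pow h hk, neg_one_sq, hU_one h hk]

/-- The generators `x_k(1) x_{-k}(1) x_s(1)` and `n`, over a field with two or three elements. -/
theorem schemeZ [Finite F] {p : ℕ} (hp23 : p = 2 ∨ p = 3) (hcard : Nat.card F = p) {p' m' : ℕ}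
    (hp' : (p' : F) = 0) (hm' : m' ≠ 0 → (m' : F) ≠ 0) {W : List ℕ} {i s : ℕ} {steps : List (ℕ × ℕ × ℕ × ℕ)}
    (hok : (wordOK D W && Nat.blt i D.rank && Nat.blt s D.nroots && (s != D.simple i) && (s != ng D (D.simple i)) &&
      (cTerms C (D.simple i) s).all (fun x => vanish p' x.2.1) &&
      (cTerms C (ng D (D.simple i)) s).all (fun x => vanish p' x.2.1) &&
      runOK D C W (D.simple i) p' m' [s] steps) = true) :
    ∃ a b : ↥(D.group F), Subgroup.closure ({a, b} : Set ↥(D.group F)) = ⊤ := by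
  simp only [Bool.and_eq_true, Nat.blt_eq, bne_iff_ne] at hok
  obtain ⟨⟨⟨⟨⟨⟨⟨hW, hi⟩, hs⟩, hne⟩, hng⟩, hc1⟩, hc2⟩, hrun⟩ := hok
  have hc := h.toChecked
  have hk := hc.simple_lt hi
  set z := xU hc F (D.simple i) 1 * xU hc F (ng D (D.simple i)) 1 with hz
  set ga := z * xU hc F s 1 with hga
  refine exists_pair (a := ga) (b := nW hc F W)
    (Subgroup.mul_mem _ (Subgroup.mul_mem _ (xU_mem_group hc _ _) (xU_mem_group hc _ _)) (xU_mem_group hc _ _))
    (nW_mem_group hc W) ?_
  set L := Subgroup.closure ({ga, nW hc F W} : Set (GL D.Idx F))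
  have haL : ga ∈ L := Subgroup.subset_closure (Or.inl rfl)
  have hcomm : Commute z (xU hc F s 1) := by
    refine ((comm_of_all hc hp' hk hs hne hng hc1 1 1).symm).mul_left
      ((comm_of_all hc hp' (Checked.ng_lt hk) hs hng (by rwa [Checked.ng_ng hk]) hc2 1 1).symm)
  have hpz : (p : F) = 0 := by
    have : Fintype F := Fintype.ofFinite F
    rw [← hcard, Nat.card_eq_fintype_card, FiniteField.cast_card_eq_zero]
  obtain ⟨m, hm, hzm⟩ := exists_pow_z h hi hp23 hpz
  have hsm : xU hc F s (m : F) ∈ L := by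
    have := L.pow_mem haL m
    rwa [hga, hcomm.mul_pow, hzm, one_mul, xU_pow, mul_one] at this
  have hall : ∀ t : F, xU hc F s t ∈ L :=
    all_of_prime_card hc (by rw [hcard]; rcases hp23 with rfl | rfl <;> norm_num) hm hsm
  have hzL : z ∈ L := by
    have := L.mul_mem haL (L.inv_mem (hall 1))
    rwa [hga, mul_inv_cancel_right] at this
  refine group_le_of_runOK h hW hp' hm' (Subgroup.subset_closure (Or.inr rfl)) (fun _ => hzL) steps [s]
    (fun r hr => ?_) hrun
  rw [List.mem_singleton.1 hr]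
  exact ⟨hs, hall⟩

end

end Cfsg.Agent.Lib.ChevGeneration.TwoGen
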